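import Groth.Agent.FlatLocus.FibreStalk
import Mathlib

/-!
# Morphisms which are isomorphisms on a fibre
-/

set_option autoImplicit false
set_option backward.isDefEq.respectTransparency false
set_option linter.style.haveILetI false

universe u

open CategoryTheory CategoryTheory.Limits AlgebraicGeometry IsLocalRing

noncomputable section

namespace Groth.Agent.FibIsoLib

/-- A surjection of rings with flat target, injective modulo the maximal ideal of the base, is bijective. -/
theorem bijective_of_flat_quot {R A B : Type u} [CommRing R] [IsLocalRing R] [CommRing A] [IsLocalRing A]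
    [IsNoetherianRing A] [CommRing B] (ρ : R →+* A) [IsLocalHom ρ] (φ : A →+* B) (hs : Function.Surjective φ)
    (hfl : (φ.comp ρ).Flat) (hker : RingHom.ker φ ≤ (maximalIdeal R).map ρ) : Function.Bijective φ := by
  refine ⟨?_, hs⟩
  letI := ρ.toAlgebra
  letI := (φ.comp ρ).toAlgebra
  haveI : Module.Flat R B := hfl
  let u : A →ₐ[R] B := { φ with commutes' := fun _ => rfl }
  have h1 : ((maximalIdeal R) • ⊤ : Submodule R A) = ((maximalIdeal R).map ρ).restrictScalars R :=
    Ideal.smul_top_eq_map (maximalIdeal R)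
  have hle : RingHom.ker φ ≤ maximalIdeal A • RingHom.ker φ := fun x hx => by
    have h2 : x ∈ (maximalIdeal R) • LinearMap.ker u.toLinearMap := by
      rw [← LinearMap.ker_inf_smul_top_eq_smul_of_flat (maximalIdeal R) u.toLinearMap hs]
      exact ⟨hx, by rw [h1]; exact hker hx⟩
    refine Submodule.smul_induction_on h2 (fun r hr n hn => ?_) fun a b ha hb => add_mem ha hb
    rw [Algebra.smul_def, ← smul_eq_mul]
    exact Submodule.smul_mem_smul (map_nonunit ρ r hr) hn
  exact (RingHom.injective_iff_ker_eq_bot φ).2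
    (Submodule.eq_bot_of_le_smul_of_le_jacobson_bot (maximalIdeal A) _ (IsNoetherian.noetherian _) hle
      (IsLocalRing.maximalIdeal_le_jacobson _))

/-- A closed immersion with bijective stalk map at a point is an isomorphism nearby. -/
theorem exists_isIso_restrict {X Y : Scheme.{u}} [IsLocallyNoetherian Y] (i : X ⟶ Y) [IsClosedImmersion i] (x : X)
    (hx : Function.Injective (i.stalkMap x).hom) :
    ∃ V : Y.Opens, i x ∈ V ∧ IsIso (i ∣_ V) := by
  classical
  obtain ⟨_, ⟨V, hV : IsAffineOpen V, rfl⟩, hxV, -⟩ :=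
    Y.isBasis_affineOpens.exists_subset_of_mem_open (Set.mem_univ (i x)) isOpen_univ
  haveI : IsNoetherianRing Γ(Y, V) := IsLocallyNoetherian.component_noetherian ⟨V, hV⟩
  let p := hV.primeIdealOf ⟨i x, hxV⟩
  letI : Algebra Γ(Y, V) (Y.presheaf.stalk (i x)) := (Y.presheaf.germ V (i x) hxV).hom.toAlgebra
  haveI : IsLocalization.AtPrime (Y.presheaf.stalk (i x)) p.asIdeal := hV.isLocalization_stalk ⟨i x, hxV⟩
  have hone : ∀ a ∈ RingHom.ker (i.app V).hom, ∃ s : p.asIdeal.primeCompl, (s : Γ(Y, V)) * a = 0 := fun a ha => by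
    refine (IsLocalization.map_eq_zero_iff p.asIdeal.primeCompl (Y.presheaf.stalk (i x)) a).1 (hx ?_)
    rw [map_zero]
    refine (Scheme.Hom.germ_stalkMap_apply i V x hxV a).trans ?_
    rw [show (i.app V).hom a = 0 from ha, map_zero]
  obtain ⟨T, hT⟩ := (IsNoetherian.noetherian (RingHom.ker (i.app V).hom) : (RingHom.ker (i.app V).hom).FG)
  choose! s hs using hone
  let e : p.asIdeal.primeCompl := ∏ a ∈ T, s a
  have he : ∀ a ∈ RingHom.ker (i.app V).hom, (e : Γ(Y, V)) * a = 0 := fun a ha => by
    have ha' : a ∈ Ideal.span (T : Set Γ(Y, V)) := hT.ge ha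
    induction ha' using Submodule.span_induction with
    | mem c hc =>
      rw [show e = (∏ b ∈ T.erase c, s b) * s c from (Finset.prod_erase_mul T s hc).symm, Submonoid.coe_mul,
        _root_.mul_assoc, hs c (hT.le (Submodule.subset_span hc)), mul_zero]
    | zero => exact mul_zero _
    | add c d _ _ ihc ihd => rw [mul_add, ihc (hT.le ‹_›), ihd (hT.le ‹_›), add_zero]
    | smul r c _ ih => rw [smul_eq_mul, mul_left_comm, ih (hT.le ‹_›), mul_zero]
  let U := Y.basicOpen (e : Γ(Y, V))
  have hU : IsAffineOpen U := hV.basicOpen _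
  refine ⟨U, ?_, (isIso_morphismRestrict_iff_isIso_app i hU).2 ((ConcreteCategory.isIso_iff_bijective _).2
    ⟨?_, i.app_surjective U hU⟩)⟩
  · rw [Y.mem_basicOpen _ (i x) hxV]
    exact IsLocalization.map_units (Y.presheaf.stalk (i x)) e
  · rw [RingHom.injective_iff_ker_eq_bot, ← Scheme.Hom.ker_apply i ⟨U, hU⟩,
      ← i.ker.map_ideal (U := ⟨U, hU⟩) (V := ⟨V, hV⟩) (Y.basicOpen_le _), Ideal.map_eq_bot_iff_le_ker]
    intro a ha
    rw [Scheme.Hom.ker_apply] at ha
    refine RingHom.mem_ker.2 ?_
    have hu : IsUnit ((Y.presheaf.map (homOfLE (Y.basicOpen_le (e : Γ(Y, V)))).op).hom (e : Γ(Y, V))) :=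
      RingedSpace.isUnit_res_basicOpen _ _
    refine hu.mul_right_eq_zero.1 ?_
    exact (map_mul _ _ _).symm.trans ((congrArg _ (he a ha)).trans (map_zero _))

end Groth.Agent.FibIsoLib
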